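import Groth.Prelude.Def_SGA3x
import Groth.Agent.FpqcDescent.Affine
import Mathlib.AlgebraicGeometry.Morphisms.LocalFlatDescent
import Mathlib.RingTheory.FiniteType

/-!
# Groups of multiplicative type of finite type: basic properties
-/

set_option autoImplicit false
set_option backward.isDefEq.respectTransparency.types false

universe u

open CategoryTheory Limits AlgebraicGeometry TopologicalSpace

namespace Groth.Agent.MTFT

theorem lft_DS (S : Scheme.{u}) (M : Type) [AddCommGroup M] [AddGroup.FG M] :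
    LocallyOfFiniteType (Red.DS S M).hom := by
  haveI : LocallyOfFiniteType (Red.diag (ULift.{u} ℤ) M).hom := by
    show LocallyOfFiniteType (Spec.map _)
    rw [HasRingHomProperty.Spec_iff (P := @LocallyOfFiniteType)]
    exact RingHom.finiteType_algebraMap.2 inferInstance
  show LocallyOfFiniteType (pullback.snd _ _)
  infer_instance

/-- An fpqc locally diagonalisable group of finite type is locally of finite type. -/
theorem locallyOfFiniteType {S : Scheme.{u}} (H : Over S) [GrpObj H] (hH : SGA3x.IsMultTypeFT H) :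
    LocallyOfFiniteType H.hom := by
  obtain ⟨S', f, hf, hfs, hlift, hloc⟩ := hH
  have h1 : LocallyOfFiniteType (pullback.snd H.hom f) := by
    choose U hU M hM hMfg e using hloc
    rw [IsZariskiLocalAtTarget.iff_of_iSup_eq_top (P := @LocallyOfFiniteType.{u}) U
      (eq_top_iff.2 fun x _ => Opens.mem_iSup.2 ⟨x, hU x⟩)]
    intro x
    obtain ⟨e⟩ := e x
    haveI := lft_DS (U x : Scheme.{u}) (M x)
    have h2 : LocallyOfFiniteType (pullback.snd H.hom ((U x).ι ≫ f)) := by
      rw [show pullback.snd H.hom ((U x).ι ≫ f) =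
        e.hom.hom.hom.left ≫ (Red.DS (U x : Scheme.{u}) (M x)).hom from (Over.w e.hom.hom.hom).symm]
      haveI : IsIso e.hom.hom.hom.left :=
        inferInstanceAs (IsIso ((Over.forget _).map ((Grp.forget _).map e.hom)))
      infer_instance
    have h3 := (isPullback_morphismRestrict (pullback.snd H.hom f) (U x)).flip.paste_horiz
      (IsPullback.of_hasPullback H.hom f)
    rw [← h3.isoPullback_hom_snd]
    infer_instance
  rw [IsZariskiLocalAtTarget.iff_of_iSup_eq_top (P := @LocallyOfFiniteType.{u}) _ (iSup_affineOpens_eq_top S)]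
  intro V
  obtain ⟨W, hW, hWV⟩ := hlift V.1 V.2
  have hle : W ≤ f ⁻¹ᵁ V.1 := fun w hw => hWV.subset ⟨w, hw, rfl⟩
  let g : (W : Scheme.{u}) ⟶ (V.1 : Scheme.{u}) := f.resLE V.1 W hle
  haveI : CompactSpace W := isCompact_iff_compactSpace.1 hW
  haveI : IsAffine (V.1 : Scheme.{u}) := V.2
  haveI : Surjective g := ⟨fun v => by
    obtain ⟨w, hw, hwv⟩ := hWV.ge v.2
    refine ⟨⟨w, hw⟩, Subtype.ext ?_⟩
    rw [← hwv]
    show (g ≫ V.1.ι) ⟨w, hw⟩ = _
    rw [Scheme.Hom.resLE_comp_ι]
    rfl⟩
  haveI : Flat g := by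
    haveI : Flat (g ≫ V.1.ι) := by rw [Scheme.Hom.resLE_comp_ι]; infer_instance
    exact MorphismProperty.of_postcomp (W' := @IsOpenImmersion) _ g V.1.ι inferInstance ‹_›
  haveI : QuasiCompact g := quasiCompact_of_compactSpace g
  refine MorphismProperty.of_pullback_snd_of_descendsAlong (P := @LocallyOfFiniteType)
    (Q := @Surjective ⊓ @Flat ⊓ @QuasiCompact) (g := g) ⟨⟨‹_›, ‹_›⟩, ‹_›⟩ ?_
  haveI := h1
  have hsq : IsPullback ((H.hom ⁻¹ᵁ V.1).ι) (H.hom ∣_ V.1) H.hom V.1.ι :=
    (isPullback_morphismRestrict H.hom V.1).flip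
  have h3 := (IsPullback.of_hasPullback (H.hom ∣_ V.1) g).paste_horiz hsq
  rw [Scheme.Hom.resLE_comp_ι] at h3
  haveI : LocallyOfFiniteType (pullback.snd H.hom (W.ι ≫ f)) := by
    have h4 := (IsPullback.of_hasPullback (pullback.snd H.hom f) W.ι).paste_horiz (IsPullback.of_hasPullback H.hom f)
    rw [← h4.isoPullback_inv_snd]
    infer_instance
  rw [← h3.isoPullback_hom_snd]
  infer_instance

end Groth.Agent.MTFT
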